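import Cfsg.Agent.Lib.CharDeep.ExactP.Mult
import Cfsg.Agent.Lib.CharDeep.CentralTrick

/-!
# Sylow subgroups of prime order: the bound from the trivial intersections
-/

set_option autoImplicit false

namespace CfsgLib.CharDeep.ExactP

open Cfsg CfsgLib CfsgLib.Blocks CfsgLib.Blocks.DefectOne
open scoped Classical ComplexConjugate

variable {G : Type*} [Group G] [Fintype G] {p : ℕ} [hp : Fact p.Prime] {P : Sylow p G} (D : Frame P)

theorem center_le_cent : Subgroup.center G ≤ cent P := fun _ hz =>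
  Subgroup.mem_centralizer_iff.2 fun u _ => Subgroup.mem_center_iff.1 hz u

/-- The bound on the norm of the restriction to a trivial-intersection centralizer. -/
theorem ti_bound (hTI : ∀ g : G, ∀ c ∈ cent P, c ∉ Subgroup.center G → g * c * g⁻¹ ∈ cent P → g ∈ nrm P)
    (ψ : IrrCharacter G) :
    (p : ℤ) * Nat.card D.K0 * ((normC D ψ : ℤ) - Nat.card D.act.range)
      < Nat.card (Subgroup.center G) * (charDegree (ψ : G → ℂ) : ℤ) ^ 2 := by
  set S := (Finset.univ : Finset (cent P)).filter fun c : cent P => (c : G) ∉ Subgroup.center G with hS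
  set d := charDegree (ψ : G → ℂ) with hd
  set F : G → ℝ := fun y => ‖(ψ : G → ℂ) y‖ ^ 2 with hF
  -- conjugates of the noncentral part
  set f : G × cent P → G := fun q => q.1 * (q.2 : G) * q.1⁻¹ with hf
  set fib : G → ℕ := fun y => (((Finset.univ : Finset G) ×ˢ S).filter fun q => f q = y).card with hfib
  have hsum : (Nat.card G : ℝ) * ∑ c ∈ S, F c = ∑ y : G, (fib y : ℝ) * F y := by
    have h := Finset.sum_fiberwise_of_maps_to (s := (Finset.univ : Finset G) ×ˢ S) (t := (Finset.univ : Finset G))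
      (g := f) (fun q _ => Finset.mem_univ _) fun q => F (f q)
    rw [Finset.sum_congr rfl (g := fun y => (fib y : ℝ) * F y) fun y _ => by
      rw [Finset.sum_congr rfl (g := fun _ => F y) fun q hq => by rw [(Finset.mem_filter.1 hq).2],
        Finset.sum_const, nsmul_eq_mul]] at h
    rw [h, Finset.sum_product, Finset.sum_congr rfl (g := fun _ => ∑ c ∈ S, F c) fun g _ =>
      Finset.sum_congr rfl fun c _ => by simp only [hF, hf, irr_conj_apply], Finset.sum_const, Finset.card_univ,
      nsmul_eq_mul, Nat.card_eq_fintype_card]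
  have hone : fib 1 = 0 := Finset.card_eq_zero.2 (Finset.filter_eq_empty_iff.2 fun q hq h => by
    refine (Finset.mem_filter.1 (Finset.mem_product.1 hq).2).2 ?_
    have h1 : (q.2 : G) = 1 := by
      have := congrArg (fun t => q.1⁻¹ * t * q.1) h
      simpa [hf, mul_assoc] using this
    rw [h1]
    exact one_mem _)
  have hle : ∀ y, fib y ≤ Nat.card (nrm P) := by
    intro y
    rcases Finset.eq_empty_or_nonempty (((Finset.univ : Finset G) ×ˢ S).filter fun q => f q = y) with h | ⟨q₀, hq₀⟩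
    · simp [hfib, h]
    rw [Nat.card_eq_fintype_card, ← Finset.card_univ, hfib]
    refine Finset.card_le_card_of_injOn
      (fun q : G × cent P => if h : q₀.1⁻¹ * q.1 ∈ nrm P then (⟨_, h⟩ : nrm P) else 1)
      (fun q _ => Finset.mem_univ _) ?_
    have key : ∀ q ∈ (((Finset.univ : Finset G) ×ˢ S).filter fun q => f q = y),
        q₀.1⁻¹ * q.1 ∈ nrm P ∧ (q.2 : G) = q.1⁻¹ * y * q.1 := by
      intro q hq
      obtain ⟨hq1, hq2⟩ := Finset.mem_filter.1 hq
      obtain ⟨h₀1, h₀2⟩ := Finset.mem_filter.1 hq₀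
      refine ⟨hTI _ q.2 q.2.2 (Finset.mem_filter.1 (Finset.mem_product.1 hq1).2).2 ?_, ?_⟩
      · have e : q₀.1⁻¹ * q.1 * (q.2 : G) * (q₀.1⁻¹ * q.1)⁻¹ = q₀.1⁻¹ * f q * q₀.1 := by
          simp [hf, mul_assoc]
        rw [e, hq2, ← h₀2]
        simp [hf, mul_assoc]
      · rw [← hq2]
        simp [hf, mul_assoc]
    intro a ha b hb hab
    simp only [Finset.mem_coe] at ha hb
    simp only [dif_pos (key a ha).1, dif_pos (key b hb).1, Subtype.mk.injEq, mul_right_inj] at hab
    exact Prod.ext hab (Subtype.ext (by rw [(key a ha).2, (key b hb).2, hab]))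
  have hF0 : ∀ y, 0 ≤ F y := fun y => sq_nonneg _
  have hd0 : (0 : ℝ) < (d : ℝ) ^ 2 := pow_pos (Nat.cast_pos.2 (charDegree_pos ψ)) 2
  have hF1 : F 1 = (d : ℝ) ^ 2 := by rw [hF]; show ‖_‖ ^ 2 = _; rw [irr_one_eq, Complex.norm_natCast]
  have hupper : (Nat.card G : ℝ) * ∑ c ∈ S, F c < (Nat.card (nrm P) : ℝ) * Nat.card G := by
    have htot : ∑ y : G, F y = (Nat.card G : ℝ) := DegreeTools.sum_norm_sq ψ
    rw [hsum, ← Finset.add_sum_erase _ _ (Finset.mem_univ (1 : G)), hone, Nat.cast_zero, zero_mul, zero_add,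
      ← htot]
    calc ∑ y ∈ Finset.univ.erase (1 : G), (fib y : ℝ) * F y
        ≤ ∑ y ∈ Finset.univ.erase (1 : G), (Nat.card (nrm P) : ℝ) * F y :=
          Finset.sum_le_sum fun y _ => mul_le_mul_of_nonneg_right (Nat.cast_le.2 (hle y)) (hF0 y)
      _ < (Nat.card (nrm P) : ℝ) * ∑ y : G, F y := by
          rw [← Finset.mul_sum, ← Finset.add_sum_erase _ _ (Finset.mem_univ (1 : G)), hF1]
          exact mul_lt_mul_of_pos_left (by linarith) (Nat.cast_pos.2 Nat.card_pos)
  have hS' : ∑ c ∈ S, F c < (Nat.card (nrm P) : ℝ) := by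
    rw [mul_comm (Nat.card (nrm P) : ℝ)] at hupper
    exact lt_of_mul_lt_mul_left hupper (Nat.cast_nonneg _)
  have hall : ∑ c : cent P, F c = (Nat.card (cent P) : ℝ) * normC D ψ := by
    have h := sum_normSq_cent D ψ
    simp only [Complex.mul_conj, Complex.normSq_eq_norm_sq] at h
    exact_mod_cast h
  have hcen : ∑ c ∈ Finset.univ.filter (fun c : cent P => ¬ (c : G) ∉ Subgroup.center G), F c
      ≤ (Nat.card (Subgroup.center G) : ℝ) * (d : ℝ) ^ 2 := by
    refine (Finset.sum_le_card_nsmul _ _ ((d : ℝ) ^ 2) fun c _ => ?_).trans ?_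
    · exact pow_le_pow_left₀ (norm_nonneg _) (DegreeTools.norm_apply_le ψ _) 2
    rw [nsmul_eq_mul]
    refine mul_le_mul_of_nonneg_right (Nat.cast_le.2 ?_) hd0.le
    rw [Nat.card_eq_fintype_card, ← Finset.card_univ]
    exact Finset.card_le_card_of_injOn
      (fun c : cent P => if h : (c : G) ∈ Subgroup.center G then (⟨_, h⟩ : Subgroup.center G) else 1)
      (fun c _ => Finset.mem_univ _) fun a ha b hb hab => by
        simp only [Finset.coe_filter, Finset.mem_univ, true_and, not_not, Set.mem_setOf_eq] at ha hb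
        simp only [dif_pos ha, dif_pos hb, Subtype.mk.injEq] at hab
        exact Subtype.ext hab
  have hsplit : ∑ c ∈ S, F c + ∑ c ∈ Finset.univ.filter (fun c : cent P => ¬ (c : G) ∉ Subgroup.center G), F c
      = ∑ c : cent P, F c := Finset.sum_filter_add_sum_filter_not _ _ _
  have hnrm : (Nat.card (nrm P) : ℝ) = (Nat.card D.act.range : ℝ) * Nat.card (cent P) := by
    exact_mod_cast D.card_nrm
  have hC : (Nat.card (cent P) : ℝ) = (p : ℝ) * Nat.card D.K0 := by exact_mod_cast D.card_cent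
  have hfinal : (p : ℝ) * Nat.card D.K0 * ((normC D ψ : ℝ) - Nat.card D.act.range)
      < (Nat.card (Subgroup.center G) : ℝ) * (d : ℝ) ^ 2 := by
    rw [← hC]
    nlinarith [hS', hall, hcen, hsplit, hnrm]
  exact_mod_cast hfinal

/-- The centre consists of `p'`-elements of the centralizer. -/
theorem center_le_K0 (hPZ : (P : Subgroup G) ⊓ Subgroup.center G = ⊥) : Subgroup.center G ≤ D.K0 := by
  intro z hz
  refine (D.mem_K0 z).2 ⟨(Subgroup.mem_center_iff.1 hz D.x).symm, fun hd => ?_⟩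
  set w := z ^ (orderOf z / p)
  have hw : orderOf w = p := by
    rw [orderOf_pow' _ (Nat.div_pos (Nat.le_of_dvd (orderOf_pos z) hd) hp.out.pos).ne',
      Nat.gcd_eq_right (Nat.div_dvd_of_dvd hd), Nat.div_div_self hd (orderOf_pos z).ne']
  have hwZ : w ∈ Subgroup.center G := pow_mem hz _
  haveI : (Subgroup.zpowers w).Normal := ⟨fun n hn g => by
    have hnZ : n ∈ Subgroup.center G := (Subgroup.zpowers_le.2 hwZ) hn
    rwa [Subgroup.mem_center_iff.1 hnZ g, mul_inv_cancel_right]⟩
  have hwp : IsPGroup p (Subgroup.zpowers w) := IsPGroup.of_card (n := 1) (by rw [Nat.card_zpowers, hw, pow_one])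
  have hwP : w ∈ (P : Subgroup G) :=
    (P.3 (IsPGroup.to_sup_of_normal_left hwp P.2) le_sup_right).le
      ((le_sup_left : Subgroup.zpowers w ≤ _) (Subgroup.mem_zpowers w))
  have : w = 1 := by
    rw [← Subgroup.mem_bot, ← hPZ]
    exact ⟨hwP, hwZ⟩
  rw [this, orderOf_one] at hw
  exact hp.out.one_lt.ne hw

theorem fdeg_sq_le (hPZ : (P : Subgroup G) ⊓ Subgroup.center G = ⊥) (θ : IrrCharacter D.K0) :
    fdeg D θ ^ 2 * Nat.card (Subgroup.center G) ≤ Nat.card D.K0 := by
  have hle := center_le_K0 D hPZ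
  have hnorm : ∀ y : D.K0, (y : G) ∈ Subgroup.center G → ‖(θ : D.K0 → ℂ) y‖ = fdeg D θ := by
    intro y hy
    have hyc : y ∈ Subgroup.center D.K0 := Subgroup.mem_center_iff.2 fun g =>
      Subtype.ext (Subgroup.mem_center_iff.1 hy g)
    obtain ⟨c, hc, -⟩ := CentralTrick.exists_scalar_center θ.2 hyc
    have hpow : ∀ n : ℕ, (θ : D.K0 → ℂ) (y ^ n) = c ^ n * (θ : D.K0 → ℂ) 1 := by
      intro n
      induction n with
      | zero => simp
      | succ n ih => rw [pow_succ, hc, ih, pow_succ]; ring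
    have h1 := hpow (orderOf y)
    rw [pow_orderOf_eq_one] at h1
    have hc1 : c ^ orderOf y = 1 := (mul_eq_right₀ (irr_one_ne_zero θ)).1 h1.symm
    have h2 := hpow 1
    rw [pow_one, pow_one] at h2
    rw [h2, norm_mul, Complex.norm_eq_one_of_pow_eq_one hc1 (orderOf_pos y).ne', one_mul, irr_one_eq,
      Complex.norm_natCast, fdeg]
  have h := DegreeTools.sum_norm_sq θ
  have h1 : (fdeg D θ : ℝ) ^ 2 * Nat.card (Subgroup.center G) ≤ Nat.card D.K0 := by
    rw [← h, mul_comm]
    refine le_of_eq_of_le ?_ (Finset.sum_le_sum_of_subset_of_nonneg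
      (Finset.subset_univ (Finset.univ.filter fun y : D.K0 => (y : G) ∈ Subgroup.center G)) fun y _ _ => sq_nonneg _)
    rw [Finset.sum_congr rfl fun y hy => by rw [hnorm y (Finset.mem_filter.1 hy).2], Finset.sum_const,
      nsmul_eq_mul, ← Fintype.card_subtype, ← Nat.card_eq_fintype_card]
    congr 2
    exact Nat.card_congr ((Subgroup.subgroupOfEquivOfLe hle).symm.toEquiv.trans
      (Equiv.subtypeEquivRight fun y => Subgroup.mem_subgroupOf))
  exact_mod_cast h1

end CfsgLib.CharDeep.ExactP
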