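import Cfsg.Agent.Lib.CharDeep.ExactP.Irr
import Cfsg.Agent.Lib.CharDeep.SmallFaithful.Reduction

/-!
# Faithful characters of degree less than `(p - 1) / 2` when `p` divides the order exactly once
-/

set_option autoImplicit false

namespace CfsgLib.CharDeep.ExactP

open Cfsg CfsgLib CfsgLib.Blocks CfsgLib.Blocks.DefectOne
open scoped Classical ComplexConjugate

section Shape

variable {G : Type*} [Group G] [Fintype G] {p : ℕ} [hp : Fact p.Prime] {P : Sylow p G} (D : Frame P)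

/-- The orbit of a multiplicity off zero costs as much as the automizer. -/
theorem mul_range_le_deg {ψ : IrrCharacter G} {θ : IrrCharacter D.K0} {k : ZMod p} (hk : k ≠ 0)
    (hpos : 0 < mult D θ ψ k) : fdeg D θ * Nat.card D.act.range ≤ charDegree (ψ : G → ℂ) := by
  set T := (Finset.univ : Finset D.act.range).image fun u : D.act.range => k * ((u : (ZMod p)ˣ) : ZMod p) with hT
  have hcard : T.card = Nat.card D.act.range := by
    rw [hT, Finset.card_image_of_injective _ fun a b e => Subtype.ext (Units.ext (mul_left_cancel₀ hk e)),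
      Finset.card_univ, Nat.card_eq_fintype_card]
  have hle : ∀ l ∈ T, fdeg D θ ≤ nP D ψ l := by
    intro l hl
    obtain ⟨⟨u, g, rfl⟩, -, rfl⟩ := Finset.mem_image.1 hl
    refine le_trans ?_ (Finset.single_le_sum (f := fun t => fdeg D t * mult D t ψ (k * (D.act g : ZMod p)))
      (fun _ _ => Nat.zero_le _) (Finset.mem_univ (D.tw θ g)))
    rw [fdeg_tw, mult_tw, mul_assoc, Units.mul_inv, mul_one]
    exact Nat.le_mul_of_pos_right _ hpos
  rw [deg_eq D, ← hcard, mul_comm]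
  calc T.card * fdeg D θ ≤ ∑ l ∈ T, nP D ψ l := by
        simpa using Finset.card_nsmul_le_sum T (fun l => nP D ψ l) (fdeg D θ) hle
    _ ≤ _ := Finset.sum_le_sum_of_subset (Finset.subset_univ _)

/-- The automizer of a small character moving `P` is small. -/
theorem three_mul_range_le {ψ : IrrCharacter G} (hmove : ∃ u ∈ (P : Subgroup G), (ψ : G → ℂ) u ≠ (ψ : G → ℂ) 1)
    (hx : 2 * charDegree (ψ : G → ℂ) + 1 < p) : 3 * Nat.card D.act.range ≤ p - 1 := by
  obtain ⟨θ₀, k₀, hk₀, hpos⟩ := exists_mult_pos D hmove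
  set m := Nat.card D.act.range with hm
  set f := fdeg D θ₀ with hf
  have hfm : f * m ≤ charDegree (ψ : G → ℂ) := mul_range_le_deg D hk₀ hpos
  have hdvd : m ∣ p - 1 := by
    have h := D.act.range.card_subgroup_dvd_card
    rwa [Nat.card_eq_fintype_card (α := (ZMod p)ˣ), ZMod.card_units] at h
  have : m ≤ f * m := Nat.le_mul_of_pos_left _ (fdeg_pos D θ₀)
  obtain ⟨q, hq⟩ := hdvd
  have h1 : m * 2 < m * q := by omega
  have h2 : 3 ≤ q := Nat.lt_of_mul_lt_mul_left h1
  rw [hq, mul_comm 3 m]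
  exact Nat.mul_le_mul_left m h2

/-- The shape of a small character moving `P`. -/
theorem small_shape {ψ : IrrCharacter G} (hmove : ∃ u ∈ (P : Subgroup G), (ψ : G → ℂ) u ≠ (ψ : G → ℂ) 1)
    (hx : 2 * charDegree (ψ : G → ℂ) + 1 ≤ p) (h3 : 3 * Nat.card D.act.range ≤ p - 1) :
    ∃ (m : ℕ) (θ₀ : IrrCharacter D.K0), Nat.card D.act.range = m ∧ 3 * m ≤ p - 1 ∧
      charDegree (ψ : G → ℂ) = fdeg D θ₀ * m ∧ normC D ψ = m ∧
      fdeg D θ₀ * (fdeg D θ₀ * m) ≤ ∑ k, nP D ψ k ^ 2 := by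
  obtain ⟨θ₀, k₀, hk₀, hpos⟩ := exists_mult_pos D hmove
  set m := Nat.card D.act.range with hm
  set f := fdeg D θ₀ with hf
  have hfm : f * m ≤ charDegree (ψ : G → ℂ) := mul_range_le_deg D hk₀ hpos
  -- the multiplicities are zero at zero
  have hzero : ∀ θ, (∃ k, k ≠ 0 ∧ 0 < mult D θ ψ k) → mult D θ ψ 0 = 0 ∧ ¬ IsConst D θ ψ ∧
      ∑ k, mult D θ ψ k = Nat.card (D.autE θ) ∧ ∑ k, mult D θ ψ k ^ 2 = Nat.card (D.autE θ) := by
    rintro θ ⟨k, hk, hkpos⟩
    have hsmall := sum_mult_le_deg D ψ θ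
    have he := autE_le_range D θ
    have hm0 : 0 < m := Nat.card_pos
    rcases pattern_sums D (three_mul_autE_le D hm.symm h3 θ) ψ with
      ⟨hc, hs1, -⟩ | ⟨s, hs, hnc, hkk, hs1, -⟩ | ⟨δ, hδ, hnc, ⟨T, -, -, hT⟩, hs1, hs2⟩
    · rw [hc k] at hkpos
      have : (p : ℤ) * 1 ≤ p * mult D θ ψ 0 :=
        mul_le_mul_of_nonneg_left (by exact_mod_cast hkpos) (Nat.cast_nonneg _)
      omega
    · have h1 := hkk k hk
      have : ((p : ℤ) - 1) * 1 ≤ ((p : ℤ) - 1) * ((mult D θ ψ 0 : ℤ) - s) :=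
        mul_le_mul_of_nonneg_left (by omega) (by omega)
      omega
    · by_cases h0 : mult D θ ψ 0 = 0
      · rcases hδ with rfl | rfl
        · rw [h0] at hs1 hs2
          refine ⟨h0, hnc, ?_, ?_⟩
          · simp only [Nat.cast_zero, mul_zero, one_mul, zero_add] at hs1
            exact Nat.cast_injective hs1
          · simp only [Nat.cast_zero, mul_zero, mul_one, one_mul, zero_add, zero_pow (two_ne_zero : (2 : ℕ) ≠ 0)] at hs2
            exact Nat.cast_injective hs2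
        · have := hT k
          split_ifs at this <;> omega
      · have : (p : ℤ) * 1 ≤ p * mult D θ ψ 0 :=
          mul_le_mul_of_nonneg_left (by omega) (Nat.cast_nonneg _)
        rcases hδ with rfl | rfl <;> omega
  obtain ⟨-, hnc₀, -, -⟩ := hzero θ₀ ⟨k₀, hk₀, hpos⟩
  have hout : ∀ θ, θ ∉ D.orb θ₀ → ∀ k, mult D θ ψ k = 0 := by
    intro θ hθ k
    by_contra hne
    have hc : IsConst D θ ψ := by
      by_contra hc
      exact hθ (mem_orb_of_not_isConst D hnc₀ hc)
    exact (hzero θ ⟨1, one_ne_zero, by rw [hc 1, ← hc k]; omega⟩).2.1 hc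
  have hin : ∀ θ ∈ D.orb θ₀, fdeg D θ = f ∧ ∑ k, mult D θ ψ k = Nat.card (D.autE θ₀) ∧
      ∑ k, mult D θ ψ k ^ 2 = Nat.card (D.autE θ₀) := by
    intro θ hθ
    have he : Nat.card (D.autE θ) = Nat.card (D.autE θ₀) := by
      have h1 := D.card_orb_mul θ
      have h2 := D.card_orb_mul θ₀
      rw [D.orb_eq_of_mem hθ] at h1
      exact mul_left_cancel₀ (Finset.card_pos.2 ⟨θ₀, D.self_mem_orb θ₀⟩).ne' (h1.trans h2.symm)
    obtain ⟨g, rfl⟩ := D.mem_orb.1 hθ
    have h := hzero (D.tw θ₀ g) ⟨k₀ * (D.act g : ZMod p), mul_ne_zero hk₀ (Units.ne_zero _), by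
      rwa [mult_tw, mul_assoc, Units.mul_inv, mul_one]⟩
    rw [he] at h
    exact ⟨fdeg_tw D θ₀ g, h.2.2.1, h.2.2.2⟩
  have hdeg : charDegree (ψ : G → ℂ) = f * m := by
    rw [deg_eq' D, ← Finset.sum_subset (Finset.subset_univ (D.orb θ₀)) fun θ _ hθ => by
      rw [Finset.sum_eq_zero fun k _ => hout θ hθ k, mul_zero],
      Finset.sum_congr rfl fun θ hθ => by rw [(hin θ hθ).1, (hin θ hθ).2.1], Finset.sum_const, smul_eq_mul, hm,
      ← D.card_orb_mul θ₀]
    ring
  refine ⟨m, θ₀, rfl, h3, hdeg, ?_, ?_⟩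
  · rw [normC, ← Finset.sum_subset (Finset.subset_univ (D.orb θ₀)) fun θ _ hθ =>
      Finset.sum_eq_zero fun k _ => by rw [hout θ hθ k]; norm_num,
      Finset.sum_congr rfl fun θ hθ => (hin θ hθ).2.2, Finset.sum_const, smul_eq_mul, hm, D.card_orb_mul θ₀]
  · rw [← hdeg, deg_eq D, Finset.mul_sum]
    refine Finset.sum_le_sum fun k _ => ?_
    rw [sq]
    by_cases h0 : nP D ψ k = 0
    · simp [h0]
    obtain ⟨θ, -, hθ⟩ := Finset.exists_ne_zero_of_sum_ne_zero h0
    refine Nat.mul_le_mul_right _ ?_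
    rw [← hf, ← (hin θ (by
      by_contra hno
      exact hθ (by rw [hout θ hno k, mul_zero]))).1]
    refine le_trans ?_ (Finset.single_le_sum (f := fun t => fdeg D t * mult D t ψ k)
      (fun _ _ => Nat.zero_le _) (Finset.mem_univ θ))
    exact Nat.le_mul_of_pos_right _ (Nat.pos_of_ne_zero fun e => hθ (by rw [e, mul_zero]))

set_option maxHeartbeats 1600000 in
include D in
/-- The contradiction for a small character moving `P`. -/
theorem no_small_character
    (hgen : ∀ M : Subgroup G, M.Normal → (P : Subgroup G) ≤ M → M = ⊤)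
    (hTI : ∀ g : G, ∀ c ∈ cent P, c ∉ Subgroup.center G → g * c * g⁻¹ ∈ cent P → g ∈ nrm P)
    (hPZ : (P : Subgroup G) ⊓ Subgroup.center G = ⊥) {ψ₀ : IrrCharacter G}
    (hmove : ∃ u ∈ (P : Subgroup G), (ψ₀ : G → ℂ) u ≠ (ψ₀ : G → ℂ) 1)
    (hne1 : charDegree (ψ₀ : G → ℂ) ≠ 1) (hx : 2 * charDegree (ψ₀ : G → ℂ) + 1 < p) : False := by
  obtain ⟨m, θ₀, hm, h3, hdeg, hN, hsq⟩ := small_shape D hmove (by omega) (three_mul_range_le D hmove hx)
  set f := fdeg D θ₀ with hf
  set x := charDegree (ψ₀ : G → ℂ) with hxdef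
  have hm0 : 0 < m := hm ▸ Nat.card_pos
  have hx2 : 2 ≤ x := by
    have := charDegree_pos ψ₀
    omega
  have hp2 : 2 * m * f + 3 ≤ p := by
    have e : 2 * m * f = 2 * x := by rw [hdeg]; ring
    have hne : p ≠ 2 * x + 2 := fun h => by
      have h2 : 2 ∣ p := ⟨x + 1, by omega⟩
      have := (Nat.prime_dvd_prime_iff_eq Nat.prime_two hp.out).1 h2
      omega
    omega
  have hkey : ∀ ψ : IrrCharacter G,
      (p : ℤ) * f ^ 2 * ((normC D ψ : ℤ) - m) < (charDegree (ψ : G → ℂ) : ℤ) ^ 2 := by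
    intro ψ
    have h1 := ti_bound D hTI ψ
    rw [hm] at h1
    have h2 : (f : ℤ) ^ 2 * Nat.card (Subgroup.center G) ≤ Nat.card D.K0 := by
      exact_mod_cast fdeg_sq_le D hPZ θ₀
    by_cases hN' : (normC D ψ : ℤ) - m ≤ 0
    · exact lt_of_le_of_lt (mul_nonpos_of_nonneg_of_nonpos (by positivity) hN')
        (pow_pos (by exact_mod_cast charDegree_pos ψ) 2)
    refine lt_of_mul_lt_mul_left ?_ (Nat.cast_nonneg (Nat.card (Subgroup.center G)))
    refine lt_of_le_of_lt ?_ h1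
    nlinarith [mul_le_mul_of_nonneg_left h2 (mul_nonneg (Nat.cast_nonneg p : (0 : ℤ) ≤ p) (not_le.1 hN').le)]
  -- the constituents of `ψ₀ * conj ψ₀`
  have hΦ : Cfsg.IsCharacter G (fun g => (ψ₀ : G → ℂ) g * conj ((ψ₀ : G → ℂ) g)) :=
    Char.IsCharacter.mul (Char.isCharacter_irr ψ₀) (Char.IsCharacter.conj' (Char.isCharacter_irr ψ₀))
  obtain ⟨a, ha, hexp⟩ := Char.IsCharacter.exists_multiplicity hΦ
  set ι := DegreeTools.oneChar G
  have ha1 : a ι = 1 := by
    apply Nat.cast_injective (R := ℂ)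
    rw [← ha, Nat.cast_one, ← Char.classInner_irr_self ψ₀.2, Cfsg.classInner, Cfsg.classInner]
    simp [ι]
  have e1 : ∑ φ, a φ * charDegree (φ : G → ℂ) = x * x := by
    apply Nat.cast_injective (R := ℂ)
    have h := hexp 1
    simp only [irr_one_eq, map_natCast] at h
    push_cast
    exact h.symm
  have e2 : ∑ φ, a φ * mult D (θone D) φ 0 = m := by
    apply Nat.cast_injective (R := ℂ)
    have h := sum_normSq_cent D ψ₀
    simp only [hexp, hN] at h
    rw [Finset.sum_comm] at h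
    simp only [← Finset.mul_sum, sum_cent D] at h
    push_cast
    refine mul_left_cancel₀ (Char.card_ne_zero (G := cent P)) ?_
    rw [← h, Finset.mul_sum]
    exact Finset.sum_congr rfl fun φ _ => by ring
  have e3 : ∑ φ, a φ * nP D φ 0 = ∑ k, nP D ψ₀ k ^ 2 := by
    apply Nat.cast_injective (R := ℂ)
    have h := sum_normSq_xpow D ψ₀
    simp only [hexp] at h
    rw [Finset.sum_comm] at h
    simp only [← Finset.mul_sum, sum_xpow D] at h
    rw [Nat.cast_sum]
    refine mul_left_cancel₀ (Nat.cast_ne_zero.2 hp.out.ne_zero : (p : ℂ) ≠ 0) ?_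
    rw [← h, Finset.mul_sum]
    exact Finset.sum_congr rfl fun φ _ => by push_cast; ring
  set s := Finset.univ.erase ι with hs
  rw [← Finset.add_sum_erase _ _ (Finset.mem_univ ι), ha1, one_mul, DegreeTools.deg_oneChar, ← hs] at e1
  rw [← Finset.add_sum_erase _ _ (Finset.mem_univ ι), ha1, one_mul, mult_oneChar, ← hs] at e2
  rw [← Finset.add_sum_erase _ _ (Finset.mem_univ ι), ha1, one_mul, nP_oneChar, ← hs] at e3
  have hmv : ∀ φ ∈ s, ∃ u ∈ (P : Subgroup G), (φ : G → ℂ) u ≠ (φ : G → ℂ) 1 := by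
    intro φ hφ
    by_contra hno
    push Not at hno
    refine Finset.ne_of_mem_erase hφ ?_
    have htop := hgen _ (Char.charKer_normal (Char.isCharacter_irr φ)) fun u hu =>
      (Char.mem_charKer _).2 (hno u hu)
    have hall : ∀ g, (φ : G → ℂ) g = (φ : G → ℂ) 1 := fun g =>
      (Char.mem_charKer (Char.isCharacter_irr φ)).1 (htop ▸ Subgroup.mem_top g)
    by_contra hne
    have h0 := DegreeTools.sum_eq_zero φ hne
    rw [Finset.sum_congr rfl fun g _ => hall g, Finset.sum_const, nsmul_eq_mul] at h0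
    rcases mul_eq_zero.1 h0 with h0 | h0
    · simp at h0
    · exact irr_one_ne_zero φ h0
  set A : ℤ := ((∑ φ ∈ s, a φ * mult D (θone D) φ 0 : ℕ) : ℤ) with hA
  set B : ℤ := ((∑ φ ∈ s, a φ * nP D φ 0 : ℕ) : ℤ) with hB
  set S : ℤ := ((∑ φ ∈ s, a φ * charDegree (φ : G → ℂ) : ℕ) : ℤ) with hS
  have hA' : A = (m : ℤ) - 1 := by rw [hA]; omega
  have hx' : (x : ℤ) = f * m := by exact_mod_cast hdeg
  have hS' : S = (x : ℤ) * x - 1 := by
    have h : (1 : ℤ) + S = (x : ℤ) * x := by rw [hS]; exact_mod_cast e1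
    linarith
  have hB' : (f : ℤ) * (f * m) - 1 ≤ B := by
    have h : (1 : ℤ) + B = ((∑ k, nP D ψ₀ k ^ 2 : ℕ) : ℤ) := by rw [hB]; exact_mod_cast e3
    have h2 : ((f * (f * m) : ℕ) : ℤ) ≤ ((∑ k, nP D ψ₀ k ^ 2 : ℕ) : ℤ) := by exact_mod_cast hsq
    push_cast at h2 h
    linarith
  have hp2' : 2 * (m : ℤ) * f + 3 ≤ p := by exact_mod_cast hp2
  have hm1 : (1 : ℤ) ≤ m := by exact_mod_cast hm0
  have hx2' : (2 : ℤ) ≤ f * m := by rw [← hx']; exact_mod_cast hx2
  have bd := fun φ (hφ : φ ∈ s) => irr_bound D hm h3 (by omega) hkey (hmv φ hφ)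
  rcases Nat.lt_or_ge f 2 with hf2 | hf2
  · have hf1 : f = 1 := by
      have := fdeg_pos D θ₀
      omega
    have h1 : ((p : ℤ) + 1) * A ≤ 2 * S := by
      rw [hA, hS]
      push_cast
      rw [Finset.mul_sum, Finset.mul_sum]
      refine Finset.sum_le_sum fun φ hφ => ?_
      have := mul_le_mul_of_nonneg_left (bd φ hφ).1 (Nat.cast_nonneg (a φ) : (0 : ℤ) ≤ a φ)
      linarith
    rw [hA', hS', hx', hf1, Nat.cast_one, one_mul] at h1
    rw [hf1, Nat.cast_one] at hp2' hx2'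
    nlinarith
  have hf2' : (2 : ℤ) ≤ f := by exact_mod_cast hf2
  by_cases hspec : ∃ φ ∈ s, 0 < a φ ∧
      ((p : ℤ) * f + 1) * mult D (θone D) φ 0 + p * f - p ≤ 2 * charDegree (φ : G → ℂ)
  · obtain ⟨φ₁, hφ₁, hpos, hleft⟩ := hspec
    have h1 : ((p : ℤ) * f + 1) * A + (p * f - p) ≤ 2 * S := by
      rw [hA, hS]
      push_cast
      rw [Finset.mul_sum, Finset.mul_sum, ← Finset.add_sum_erase _ _ hφ₁, ← Finset.add_sum_erase _ _ hφ₁]
      have h2 : ∑ φ ∈ s.erase φ₁, ((p : ℤ) * f + 1) * ((a φ : ℤ) * mult D (θone D) φ 0)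
          ≤ ∑ φ ∈ s.erase φ₁, 2 * ((a φ : ℤ) * charDegree (φ : G → ℂ)) :=
        Finset.sum_le_sum fun φ hφ => by
          have := mul_le_mul_of_nonneg_left ((bd φ (Finset.mem_of_mem_erase hφ)).2 hf2).1
            (Nat.cast_nonneg (a φ) : (0 : ℤ) ≤ a φ)
          linarith
      have h3 := mul_le_mul_of_nonneg_left hleft (Nat.cast_nonneg (a φ₁) : (0 : ℤ) ≤ a φ₁)
      have h4 : ((p : ℤ) * f - p) * 1 ≤ ((p : ℤ) * f - p) * a φ₁ :=
        mul_le_mul_of_nonneg_left (by exact_mod_cast hpos)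
          (by nlinarith)
      linarith
    rw [hA', hS', hx'] at h1
    nlinarith [mul_le_mul_of_nonneg_right hp2' (by linarith : (0 : ℤ) ≤ (f : ℤ) * m - 1)]
  · push Not at hspec
    have h1 : (p : ℤ) * B ≤ S + p * A := by
      rw [hA, hB, hS]
      push_cast
      rw [Finset.mul_sum, Finset.mul_sum, ← Finset.sum_add_distrib]
      refine Finset.sum_le_sum fun φ hφ => ?_
      rcases Nat.eq_zero_or_pos (a φ) with h0 | h0
      · simp [h0]
      have := mul_le_mul_of_nonneg_left (((bd φ hφ).2 hf2).2.resolve_left (not_le.2 (hspec φ hφ h0)))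
        (Nat.cast_nonneg (a φ) : (0 : ℤ) ≤ a φ)
      linarith
    rw [hA', hS', hx'] at h1
    have h2 := mul_le_mul_of_nonneg_left hB' (Nat.cast_nonneg p : (0 : ℤ) ≤ p)
    have h5 : 0 ≤ (m : ℤ) * ((f : ℤ) ^ 2 - 1) := mul_nonneg (by linarith) (by nlinarith)
    have h6 := mul_le_mul_of_nonneg_right hp2' h5
    have h7 : 0 ≤ (m : ℤ) * m * f * (2 * ((f : ℤ) ^ 2 - 1) - f) :=
      mul_nonneg (by positivity) (by nlinarith)
    nlinarith

end Shape

universe u

theorem sylow_normal_aux {p : ℕ} [hp : Fact p.Prime] :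
    ∀ (n : ℕ) (G : Type u) [Group G] [Finite G], Nat.card G = n → ¬ p ^ 2 ∣ Nat.card G → ∀ χ : G → ℂ,
      Cfsg.IsCharacter G χ → (∀ g : G, χ g = χ 1 → g = 1) → 2 * Cfsg.charDegree χ + 1 < p →
      ∀ P : Sylow p G, (P : Subgroup G).Normal := by
  intro n
  induction n using Nat.strong_induction_on with
  | _ n ih =>
  intro G _ _ hn hsq χ hχ hfaith hdeg P
  cases nonempty_fintype G
  by_contra hP
  have hsub : ∀ H : Subgroup G, H ≠ ⊤ → ∀ Q : Sylow p H, (Q : Subgroup H).Normal := fun H hH =>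
    ih (Nat.card H) (hn ▸ lt_of_le_of_ne (Subgroup.card_le_card_group H)
      fun e => hH (H.eq_top_of_card_eq e)) H rfl (fun h => hsq (h.trans H.card_subgroup_dvd_card)) _
      (Char.IsCharacter.restrict hχ H) (fun g e => SmallFaithful.faithful_restrict hfaith H g e) hdeg
  have hcard : Nat.card P = p := by
    obtain ⟨a, ha⟩ := P.2.exists_card_eq
    have ha2 : a < 2 := by
      by_contra hlt
      exact hsq ((pow_dvd_pow p (not_lt.1 hlt)).trans (ha ▸ (P : Subgroup G).card_subgroup_dvd_card))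
    rcases (by omega : a = 0 ∨ a = 1) with rfl | rfl
    · rw [pow_zero] at ha
      exact absurd (Subgroup.eq_bot_of_card_eq _ ha ▸ inferInstance) hP
    · rwa [pow_one] at ha
  obtain ⟨D⟩ := exists_frame P hcard
  have hPZ : (P : Subgroup G) ⊓ Subgroup.center G = ⊥ := by
    by_contra hne
    obtain ⟨w, hw, hw1⟩ := (Subgroup.bot_or_exists_ne_one _).resolve_left hne
    refine hP ?_
    have hle : (P : Subgroup G) ≤ Subgroup.center G := by
      rw [← PrimeOrder.zpowers_eq P hcard hw.1 hw1, Subgroup.zpowers_le]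
      exact hw.2
    exact ⟨fun v hv g => by rwa [Subgroup.mem_center_iff.1 (hle hv) g, mul_inv_cancel_right]⟩
  have hTI : ∀ g : G, ∀ c ∈ cent P, c ∉ Subgroup.center G → g * c * g⁻¹ ∈ cent P → g ∈ nrm P := by
    intro g c hc hcZ hgc
    set C := Subgroup.centralizer ({c} : Set G)
    have hC : C ≠ ⊤ := fun h => hcZ (Subgroup.mem_center_iff.2 fun u => by
      have hu : u ∈ C := h ▸ Subgroup.mem_top u
      exact Subgroup.mem_centralizer_singleton_iff.1 hu)
    have hPC : (P : Subgroup G) ≤ C := fun u hu =>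
      Subgroup.mem_centralizer_singleton_iff.2 (Subgroup.mem_centralizer_iff.1 hc u hu)
    have hN := SmallFaithful.le_normalizer_of_proper P hsub hC hPC
    have hxC : g⁻¹ * D.x * g ∈ C := by
      rw [Subgroup.mem_centralizer_singleton_iff]
      have h := Subgroup.mem_centralizer_iff.1 hgc D.x D.x_mem
      calc g⁻¹ * D.x * g * c = g⁻¹ * (D.x * (g * c * g⁻¹)) * g := by group
        _ = g⁻¹ * (g * c * g⁻¹ * D.x) * g := by rw [h]
        _ = c * (g⁻¹ * D.x * g) := by group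
    have hxp : IsPGroup p (Subgroup.zpowers (g⁻¹ * D.x * g)) := IsPGroup.of_card (n := 1) (by
      rw [Nat.card_zpowers, pow_one, show g⁻¹ * D.x * g = MulAut.conj g⁻¹ D.x by simp,
        (MulAut.conj g⁻¹).orderOf_eq, D.ord])
    have hxP : g⁻¹ * D.x * g ∈ (P : Subgroup G) :=
      (P.3 (IsPGroup.to_sup_of_normal_right' hxp P.2 (Subgroup.zpowers_le.2 (hN hxC))) le_sup_right).le
        ((le_sup_left : Subgroup.zpowers (g⁻¹ * D.x * g) ≤ _) (Subgroup.mem_zpowers _))
    have hne : g⁻¹ * D.x * g ≠ 1 := fun h => by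
      have hx1 : D.x = g * (g⁻¹ * D.x * g) * g⁻¹ := by group
      rw [h, mul_one, mul_inv_cancel] at hx1
      exact hp.out.one_lt.ne (by rw [← D.ord, hx1, orderOf_one])
    have hgi : g⁻¹ ∈ nrm P := by
      refine Subgroup.mem_normalizer_fintype fun v hv => ?_
      have hv' : v ∈ Subgroup.zpowers D.x := by rw [D.zp]; exact hv
      obtain ⟨i, rfl⟩ := Subgroup.mem_zpowers_iff.1 hv'
      rw [← conj_zpow, inv_inv]
      exact zpow_mem hxP i
    simpa using inv_mem hgi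
  obtain ⟨ψ, hle, hne, hmove⟩ := SmallFaithful.exists_moving P hP hχ hfaith
  exact no_small_character D (fun M hM hPM => SmallFaithful.eq_top_of_normal_ge P hP hsub hM hPM) hTI hPZ hmove
    (fun h => hne (by rw [irr_one_eq, h, Nat.cast_one])) (by omega)

end CfsgLib.CharDeep.ExactP
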