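import Cfsg.Agent.Lib.CharDeep.ExactP.Pattern
import Cfsg.Agent.Lib.CharDeep.ExactP.Bound

/-!
# Sylow subgroups of prime order: degree bounds for the irreducible characters
-/

set_option autoImplicit false

namespace CfsgLib.CharDeep.ExactP

open Cfsg CfsgLib CfsgLib.Blocks CfsgLib.Blocks.DefectOne
open scoped Classical ComplexConjugate

variable {G : Type*} [Group G] [Fintype G] {p : ℕ} [hp : Fact p.Prime] {P : Sylow p G} (D : Frame P)

theorem sum_mult_le_deg (ψ : IrrCharacter G) (θ : IrrCharacter D.K0) :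
    ∑ k, mult D θ ψ k ≤ charDegree (ψ : G → ℂ) := by
  rw [deg_eq' D]
  exact (Nat.le_mul_of_pos_left _ (fdeg_pos D θ)).trans
    (Finset.single_le_sum (f := fun θ => fdeg D θ * ∑ k, mult D θ ψ k) (fun _ _ => Nat.zero_le _) (Finset.mem_univ θ))

theorem sum_mult_two_le_deg (ψ : IrrCharacter G) {θ θ' : IrrCharacter D.K0} (h : θ ≠ θ') :
    ∑ k, mult D θ ψ k + ∑ k, mult D θ' ψ k ≤ charDegree (ψ : G → ℂ) := by
  rw [deg_eq' D]
  calc ∑ k, mult D θ ψ k + ∑ k, mult D θ' ψ k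
      ≤ fdeg D θ * (∑ k, mult D θ ψ k) + fdeg D θ' * (∑ k, mult D θ' ψ k) :=
        Nat.add_le_add (Nat.le_mul_of_pos_left _ (fdeg_pos D θ)) (Nat.le_mul_of_pos_left _ (fdeg_pos D θ'))
    _ = ∑ t ∈ ({θ, θ'} : Finset (IrrCharacter D.K0)), fdeg D t * (∑ k, mult D t ψ k) := (Finset.sum_pair (f := fun t => fdeg D t * ∑ k, mult D t ψ k) h).symm
    _ ≤ _ := Finset.sum_le_sum_of_subset (Finset.subset_univ _)

theorem sq_le_normC (ψ : IrrCharacter G) (θ : IrrCharacter D.K0) :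
    ∑ k, mult D θ ψ k ^ 2 ≤ normC D ψ :=
  Finset.single_le_sum (f := fun θ => ∑ k, mult D θ ψ k ^ 2) (fun _ _ => Nat.zero_le _) (Finset.mem_univ θ)

theorem sq_two_le_normC (ψ : IrrCharacter G) {θ θ' : IrrCharacter D.K0} (h : θ ≠ θ') :
    ∑ k, mult D θ ψ k ^ 2 + ∑ k, mult D θ' ψ k ^ 2 ≤ normC D ψ := by
  rw [← Finset.sum_pair (f := fun t => ∑ k, mult D t ψ k ^ 2) h]
  exact Finset.sum_le_sum_of_subset (Finset.subset_univ _)

/-- A character moving `P` has constant positive multiplicities somewhere else. -/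
theorem exists_other {ψ : IrrCharacter G} (hmove : ∃ u ∈ (P : Subgroup G), (ψ : G → ℂ) u ≠ (ψ : G → ℂ) 1)
    {θ : IrrCharacter D.K0} (hθ : ¬ IsConst D θ ψ) (h0 : ∀ k : ZMod p, k ≠ 0 → mult D θ ψ k = 0) :
    ∃ θ', θ ≠ θ' ∧ p ≤ ∑ k, mult D θ' ψ k ∧ p ≤ ∑ k, mult D θ' ψ k ^ 2 := by
  obtain ⟨θ', k, hk, hpos⟩ := exists_mult_pos D hmove
  have hne : θ ≠ θ' := fun e => by rw [← e, h0 k hk] at hpos; exact lt_irrefl 0 hpos
  have hc : IsConst D θ' ψ := by
    by_contra hc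
    obtain ⟨g, rfl⟩ := D.mem_orb.1 (mem_orb_of_not_isConst D hθ hc)
    rw [mult_tw, h0 _ (mul_ne_zero hk (Units.ne_zero _))] at hpos
    exact lt_irrefl 0 hpos
  rw [hc k] at hpos
  refine ⟨θ', hne, ?_, ?_⟩ <;>
  · rw [Finset.sum_congr rfl fun k _ => by rw [hc k], Finset.sum_const, Finset.card_univ, ZMod.card, smul_eq_mul]
    exact Nat.le_mul_of_pos_right _ (by positivity)

theorem three_mul_autE_le {m : ℕ} (hm : Nat.card D.act.range = m) (h3 : 3 * m ≤ p - 1) (θ : IrrCharacter D.K0) :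
    3 * Nat.card (D.autE θ) ≤ p - 1 := by
  have := autE_le_range D θ
  omega

/-- A character moving `P` with a multiplicity of the trivial character of `P` has large norm. -/
theorem normC_ge_of_pos {m : ℕ} (hm : Nat.card D.act.range = m) (h3 : 3 * m ≤ p - 1) {ψ : IrrCharacter G}
    (hmove : ∃ u ∈ (P : Subgroup G), (ψ : G → ℂ) u ≠ (ψ : G → ℂ) 1) {θ : IrrCharacter D.K0}
    (hpos : 0 < mult D θ ψ 0) : (p : ℤ) - m ≤ normC D ψ := by
  have hle : ((∑ k, mult D θ ψ k ^ 2 : ℕ) : ℤ) ≤ normC D ψ := by exact_mod_cast sq_le_normC D ψ θ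
  have hM : (1 : ℤ) ≤ mult D θ ψ 0 := by exact_mod_cast hpos
  have hp1 : (1 : ℤ) ≤ p := by exact_mod_cast hp.out.one_le
  have hm0 : (0 : ℤ) ≤ m := Nat.cast_nonneg _
  have he : (Nat.card (D.autE θ) : ℤ) ≤ m := by exact_mod_cast hm ▸ autE_le_range D θ
  have h3' : 3 * (m : ℤ) ≤ (p : ℤ) - 1 := by omega
  rcases pattern_sums D (three_mul_autE_le D hm h3 θ) ψ with ⟨-, -, hq⟩ | ⟨s, hs, hnc, hk, -, hq⟩ | ⟨δ, hδ, -, -, -, hq⟩
  · rw [hq] at hle
    nlinarith [mul_le_mul_of_nonneg_left (one_le_pow₀ hM : (1 : ℤ) ≤ (mult D θ ψ 0 : ℤ) ^ 2)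
      (by linarith : (0 : ℤ) ≤ p)]
  · rw [hq] at hle
    rcases hs with rfl | rfl
    · by_cases h1 : mult D θ ψ 0 = 1
      · obtain ⟨θ', hne, -, hp'⟩ := exists_other D hmove hnc fun k hk0 => by have := hk k hk0; omega
        have := sq_two_le_normC D ψ hne
        omega
      · have h2 : (2 : ℤ) ≤ mult D θ ψ 0 := by omega
        nlinarith [mul_nonneg (sub_nonneg.2 hp1)
          (by nlinarith : (0 : ℤ) ≤ ((mult D θ ψ 0 : ℤ) - 1) ^ 2 - 1)]
    · nlinarith [mul_nonneg (sub_nonneg.2 hp1) (by nlinarith : (0 : ℤ) ≤ ((mult D θ ψ 0 : ℤ) - (-1)) ^ 2 - 1)]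
  · rw [hq] at hle
    have he0 : (0 : ℤ) ≤ Nat.card (D.autE θ) := Nat.cast_nonneg _
    rcases hδ with rfl | rfl
    · nlinarith [mul_le_mul_of_nonneg_left (one_le_pow₀ hM : (1 : ℤ) ≤ (mult D θ ψ 0 : ℤ) ^ 2)
        (by linarith : (0 : ℤ) ≤ p),
        mul_nonneg (by linarith : (0 : ℤ) ≤ 2 * 1 * (mult D θ ψ 0 : ℤ) + 1) he0]
    · nlinarith [mul_nonneg (sub_nonneg.2 hM) (by nlinarith : (0 : ℤ) ≤ (p : ℤ) * (mult D θ ψ 0 + 1) - 2 * m),
        mul_le_mul_of_nonneg_left he (sub_nonneg.2 hM)]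

/-- The degree when every other multiplicity is constant. -/
theorem deg_eq_of_const {ψ : IrrCharacter G} (h : ∀ θ, θ ≠ θone D → IsConst D θ ψ) :
    (charDegree (ψ : G → ℂ) : ℤ) = (∑ k, mult D (θone D) ψ k : ℕ)
      + (p : ℤ) * ((nP D ψ 0 : ℤ) - mult D (θone D) ψ 0) := by
  rw [deg_eq' D, nP, ← Finset.add_sum_erase _ _ (Finset.mem_univ (θone D)),
    ← Finset.add_sum_erase _ (fun θ => fdeg D θ * mult D θ ψ 0) (Finset.mem_univ (θone D)), fdeg_θone]
  push_cast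
  rw [one_mul, one_mul, add_sub_cancel_left, Finset.mul_sum]
  congr 1
  refine Finset.sum_congr rfl fun θ hθ => ?_
  rw [Finset.sum_congr rfl fun k _ => by rw [h θ (Finset.ne_of_mem_erase hθ) k], Finset.sum_const, Finset.card_univ,
    ZMod.card, nsmul_eq_mul]
  ring

/-- A bound on the square gives a bound on twice the degree. -/
theorem lt_two_mul {X d N : ℤ} {q : ℤ} (hd : 0 ≤ d) (hkey : q * N < d ^ 2) (h : X ^ 2 ≤ 4 * (q * N)) :
    X < 2 * d := by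
  nlinarith

theorem sq_special_le {p f m : ℤ} (hp : 5 ≤ p) (hf : 2 ≤ f) (hm : 0 ≤ m) (h : 2 * m * f + 1 ≤ p) :
    (2 * p * f - p + 1) ^ 2 ≤ 4 * p * f ^ 2 * (p - m) := by
  have h1 : p * (4 * f * m + 2) ≤ p * (p * 2) := by
    refine mul_le_mul_of_nonneg_left ?_ (by linarith)
    linarith
  nlinarith [mul_le_mul_of_nonneg_left h1 (by linarith : (0 : ℤ) ≤ f),
    mul_nonneg (mul_nonneg (by linarith : (0 : ℤ) ≤ p) (by linarith : (0 : ℤ) ≤ p - 2)) (by linarith : (0 : ℤ) ≤ f - 1),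
    mul_nonneg (by linarith : (0 : ℤ) ≤ p) (by linarith : (0 : ℤ) ≤ p - 2)]

set_option maxHeartbeats 1000000 in
/-- The bounds for a character moving `P`. -/
theorem irr_bound {m f : ℕ} (hm : Nat.card D.act.range = m) (h3 : 3 * m ≤ p - 1) (hp2 : 2 * m * f + 1 ≤ p)
    (hkey : ∀ ψ : IrrCharacter G,
      (p : ℤ) * f ^ 2 * ((normC D ψ : ℤ) - m) < (charDegree (ψ : G → ℂ) : ℤ) ^ 2)
    {ψ : IrrCharacter G} (hmove : ∃ u ∈ (P : Subgroup G), (ψ : G → ℂ) u ≠ (ψ : G → ℂ) 1) :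
    ((p : ℤ) + 1) * mult D (θone D) ψ 0 ≤ 2 * charDegree (ψ : G → ℂ) ∧
      (2 ≤ f → ((p : ℤ) * f + 1) * mult D (θone D) ψ 0 ≤ 2 * charDegree (ψ : G → ℂ) ∧
        (((p : ℤ) * f + 1) * mult D (θone D) ψ 0 + p * f - p ≤ 2 * charDegree (ψ : G → ℂ) ∨
          (p : ℤ) * nP D ψ 0 ≤ charDegree (ψ : G → ℂ) + p * mult D (θone D) ψ 0)) := by
  set M : ℤ := (mult D (θone D) ψ 0 : ℤ) with hMdef
  set d : ℤ := (charDegree (ψ : G → ℂ) : ℤ) with hddef
  set N : ℤ := (normC D ψ : ℤ) with hNdef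
  have hd : 0 ≤ d := Nat.cast_nonneg _
  have hk := hkey ψ
  rw [← hNdef, ← hddef] at hk
  have hp5 : (5 : ℤ) ≤ p := by
    have : 0 < m := hm ▸ Nat.card_pos
    by_contra hlt
    obtain rfl : p = 4 := by omega
    exact absurd hp.out (by norm_num)
  have hm1 : (1 : ℤ) ≤ m := by exact_mod_cast hm ▸ Nat.card_pos
  have h3' : 3 * (m : ℤ) ≤ (p : ℤ) - 1 := by omega
  have hp2' : 2 * (m : ℤ) * f + 1 ≤ p := by exact_mod_cast hp2
  have hM0 : 0 ≤ M := Nat.cast_nonneg _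
  have hdM : ((∑ k, mult D (θone D) ψ k : ℕ) : ℤ) ≤ d := Int.ofNat_le.2 (sum_mult_le_deg D ψ _)
  have hqM : ((∑ k, mult D (θone D) ψ k ^ 2 : ℕ) : ℤ) ≤ N := Int.ofNat_le.2 (sq_le_normC D ψ _)
  have heq : (Nat.card (D.autE (θone D)) : ℤ) = m := by rw [card_autE_θone, hm]
  -- consequences of the norm bound
  have crit : 2 ≤ f → ((p : ℤ) + 2) * M ^ 2 ≤ 4 * (N - m) → ((p : ℤ) * f + 1) * M ≤ 2 * d := by
    intro hf h
    have hf' : (2 : ℤ) ≤ f := by exact_mod_cast hf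
    have h1 : ((p : ℤ) * f + 1) ^ 2 ≤ (p : ℤ) * f ^ 2 * (p + 2) := by
      nlinarith [mul_le_mul_of_nonneg_left (by nlinarith : (2 : ℤ) ≤ (f : ℤ) * ((f : ℤ) - 1))
        (by linarith : (0 : ℤ) ≤ (p : ℤ))]
    refine (lt_two_mul hd hk ?_).le
    nlinarith [mul_le_mul_of_nonneg_left h (by positivity : (0 : ℤ) ≤ (p : ℤ) * f ^ 2),
      mul_le_mul_of_nonneg_right h1 (sq_nonneg M)]
  have zero_case : M = 0 → 2 ≤ f → ((p : ℤ) * f + 1) * M + p * f - p ≤ 2 * d ∨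
      (p : ℤ) * nP D ψ 0 ≤ d + p * M := by
    intro hM hf
    by_cases hc : nP D ψ 0 = 0
    · exact Or.inr (by rw [hc, hM]; simpa using hd)
    obtain ⟨θ, -, hθ⟩ := Finset.exists_ne_zero_of_sum_ne_zero (show ∑ θ, fdeg D θ * mult D θ ψ 0 ≠ 0 from hc)
    have hN := normC_ge_of_pos D hm h3 hmove (θ := θ) (Nat.pos_of_ne_zero fun e => hθ (by rw [e, mul_zero]))
    rw [← hNdef] at hN
    have hf' : (2 : ℤ) ≤ f := by exact_mod_cast hf
    have h4m : 4 * (m : ℤ) ≤ p := by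
      nlinarith [mul_le_mul_of_nonneg_left hf' (by linarith : (0 : ℤ) ≤ (m : ℤ))]
    left
    have h5 : (p : ℤ) * f < 2 * d := lt_two_mul hd hk (by
      nlinarith [mul_le_mul_of_nonneg_left (show (p : ℤ) ≤ 4 * (N - m) by linarith)
        (by positivity : (0 : ℤ) ≤ (p : ℤ) * f ^ 2)])
    rw [hM]
    linarith
  by_cases hM1 : M = 0
  · refine ⟨by rw [hM1]; linarith, fun hf => ⟨by rw [hM1]; linarith, zero_case hM1 hf⟩⟩
  have hM1' : 1 ≤ M := by omega
  have right : ¬ IsConst D (θone D) ψ → (p : ℤ) * nP D ψ 0 ≤ d + p * M := fun hnc => by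
    have := deg_eq_of_const D (ψ := ψ) fun θ hθ => by
      by_contra hc
      exact hθ (eq_θone_of_mem_orb D (mem_orb_of_not_isConst D hnc hc))
    rw [← hddef, ← hMdef] at this
    have h0 : (0 : ℤ) ≤ ((∑ k, mult D (θone D) ψ k : ℕ) : ℤ) := Nat.cast_nonneg _
    rw [mul_sub] at this
    linarith
  rcases pattern_sums D (three_mul_autE_le D hm h3 (θone D)) ψ with
    ⟨-, hs1, hs2⟩ | ⟨s, hs, hnc, hkk, hs1, hs2⟩ | ⟨δ, hδ, hnc, -, hs1, hs2⟩
  · rw [← hMdef] at hs1 hs2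
    rw [hs1] at hdM
    rw [hs2] at hqM
    refine ⟨by nlinarith, fun hf => ?_⟩
    have hf' : (2 : ℤ) ≤ f := by exact_mod_cast hf
    have h5 : (2 * (p : ℤ) * f - p + 1) * M ≤ 2 * d := (lt_two_mul hd hk (by
      have e1 := sq_special_le (p := (p : ℤ)) (f := f) (m := m) (by linarith) hf' (by linarith) hp2'
      have e2 : ((p : ℤ) - m) * M ^ 2 ≤ N - m := by
        nlinarith [mul_le_mul_of_nonneg_left (one_le_pow₀ hM1' : (1 : ℤ) ≤ M ^ 2) (by linarith : (0 : ℤ) ≤ (m : ℤ))]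
      nlinarith [mul_le_mul_of_nonneg_right e1 (sq_nonneg M),
        mul_le_mul_of_nonneg_left e2 (by positivity : (0 : ℤ) ≤ 4 * (p : ℤ) * f ^ 2)])).le
    have h6 : ((p : ℤ) * f - p) * 1 ≤ ((p : ℤ) * f - p) * M :=
      mul_le_mul_of_nonneg_left hM1' (by nlinarith)
    have h7 : 0 ≤ (p : ℤ) * f - p := by nlinarith
    exact ⟨by linarith, Or.inl (by linarith)⟩
  · rw [← hMdef] at hs1 hs2
    rw [hs1] at hdM
    rw [hs2] at hqM
    rcases hs with rfl | rfl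
    · by_cases h1 : M = 1
      · obtain ⟨θ', hne, hp1, hp1'⟩ := exists_other D hmove hnc fun k hk0 => by
          have := hkk k hk0
          omega
        have a1 := sum_mult_two_le_deg D ψ hne
        have a2 := sq_two_le_normC D ψ hne
        have b1 : (p : ℤ) + 1 ≤ d := by
          rw [h1] at hs1
          omega
        have b2 : (p : ℤ) + 1 ≤ N := by
          rw [h1] at hs2
          omega
        refine ⟨by rw [h1]; linarith, fun hf => ⟨crit hf (by rw [h1]; linarith), Or.inr (right hnc)⟩⟩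
      · have h2 : 2 ≤ M := by omega
        refine ⟨by nlinarith, fun hf => ⟨?_, Or.inr (right hnc)⟩⟩
        have hf' : (2 : ℤ) ≤ f := by exact_mod_cast hf
        by_cases h22 : M = 2
        · rw [h22] at hs1 hs2 hdM hqM ⊢
          have hD := deg_eq_of_const D (ψ := ψ) fun θ hθ => by
            by_contra hc
            exact hθ (eq_θone_of_mem_orb D (mem_orb_of_not_isConst D hnc hc))
          rw [← hddef, hs1] at hD
          set j : ℤ := (nP D ψ 0 : ℤ) - (mult D (θone D) ψ 0 : ℤ)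
          have h5 : (p : ℤ) * (2 * f - 1) < 2 * d := lt_two_mul hd hk (by
            have e1 : (p : ℤ) + 3 - m ≤ N - m := by linarith
            have e3 : 0 ≤ (p : ℤ) * (4 * f - 1) - 4 * f ^ 2 * m + 12 * f ^ 2 := by
              nlinarith [mul_le_mul_of_nonneg_right hp2' (by linarith : (0 : ℤ) ≤ 4 * (f : ℤ) - 1),
                mul_nonneg (mul_nonneg (by linarith : (0 : ℤ) ≤ (m : ℤ)) (by linarith : (0 : ℤ) ≤ (f : ℤ)))
                  (by linarith : (0 : ℤ) ≤ 2 * (f : ℤ) - 1)]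
            nlinarith [mul_le_mul_of_nonneg_left e1 (by positivity : (0 : ℤ) ≤ 4 * (p : ℤ) * f ^ 2),
              mul_nonneg (by linarith : (0 : ℤ) ≤ (p : ℤ)) e3])
          have hj : (f : ℤ) ≤ j + 1 := by
            by_contra hlt
            have : (p : ℤ) * (j + 2) ≤ p * f := mul_le_mul_of_nonneg_left (by omega) (by linarith)
            nlinarith
          have : (p : ℤ) * f ≤ p * (j + 1) := mul_le_mul_of_nonneg_left hj (by linarith)
          nlinarith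
        · have h33 : 3 ≤ M := by omega
          refine crit hf ?_
          nlinarith [mul_le_mul_of_nonneg_left (by nlinarith : (7 : ℤ) ≤ 3 * M ^ 2 - 8 * M + 4)
            (by linarith : (0 : ℤ) ≤ (p : ℤ) - 1)]
    · refine ⟨by nlinarith, fun hf => ⟨crit hf ?_, Or.inr (right hnc)⟩⟩
      nlinarith
  · rw [heq, ← hMdef] at hs1 hs2
    rw [hs1] at hdM
    rw [hs2] at hqM
    refine ⟨?_, fun hf => ⟨crit hf ?_, Or.inr (right hnc)⟩⟩
    · rcases hδ with rfl | rfl <;> nlinarith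
    · have hf' : (2 : ℤ) ≤ f := by exact_mod_cast hf
      have h4m : 4 * (m : ℤ) ≤ p := by
        nlinarith [mul_le_mul_of_nonneg_left hf' (by linarith : (0 : ℤ) ≤ (m : ℤ))]
      rcases hδ with rfl | rfl <;> nlinarith

end CfsgLib.CharDeep.ExactP
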