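import Cfsg.Agent.Lib.Blocks.DefectOne
import Cfsg.Agent.Lib.DegreeTools.Basic

/-!
# Sylow subgroups of prime order: multiplicities on the centralizer
-/

set_option autoImplicit false

namespace CfsgLib.CharDeep.ExactP

open Cfsg CfsgLib CfsgLib.Blocks CfsgLib.Blocks.DefectOne
open scoped Classical ComplexConjugate

variable {G : Type*} [Group G] [Fintype G] {p : ℕ} [hp : Fact p.Prime] {P : Sylow p G} (D : Frame P)

/-- The principal character of `K0`. -/
noncomputable def θone : IrrCharacter D.K0 := DegreeTools.oneChar D.K0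

theorem θone_apply (y : D.K0) : (θone D : D.K0 → ℂ) y = 1 := rfl

/-- The degree of a character of `K0`. -/
noncomputable def fdeg (θ : IrrCharacter D.K0) : ℕ := charDegree (θ : D.K0 → ℂ)

theorem fdeg_pos (θ : IrrCharacter D.K0) : 0 < fdeg D θ := charDegree_pos θ

theorem fdeg_θone : fdeg D (θone D) = 1 := DegreeTools.deg_oneChar

/-- The multiplicity of `ext k θ` in the restriction to the centralizer. -/
noncomputable def mult (θ : IrrCharacter D.K0) (ψ : IrrCharacter G) (k : ZMod p) : ℕ :=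
  (D.exists_mult θ ψ k).choose

theorem mult_spec (θ : IrrCharacter D.K0) (ψ : IrrCharacter G) (k : ZMod p) :
    classInner (fun c : cent P => (ψ : G → ℂ) c) (D.ext k θ : cent P → ℂ) = mult D θ ψ k :=
  (D.exists_mult θ ψ k).choose_spec

theorem diff_eq (θ : IrrCharacter D.K0) (ψ : IrrCharacter G) (k : ZMod p) :
    D.diff θ k ψ = (mult D θ ψ 0 : ℤ) - mult D θ ψ k := rfl

theorem sec_eq (θ : IrrCharacter D.K0) (ψ : IrrCharacter G) (a : ZMod p) :
    D.sec θ ψ a = ∑ k : ZMod p, (mult D θ ψ k : ℂ) * ZMod.stdAddChar (k * a) := by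
  rw [Frame.sec, ← D.sum_classInner_ext]
  simp only [mult_spec]

/-- The expansion on the centralizer. -/
theorem apply_el (ψ : IrrCharacter G) (a : ZMod p) (y : D.K0) :
    (ψ : G → ℂ) (D.el a y : G) = ∑ θ : IrrCharacter D.K0, ∑ k : ZMod p,
      (mult D θ ψ k : ℂ) * (D.ext k θ : cent P → ℂ) (D.el a y) := by
  rw [D.apply_mk]
  simp only [sec_eq, Finset.sum_mul, Frame.ext_mk, mul_assoc]

/-- The multiplicity of the linear character `k` on `P`. -/
noncomputable def nP (ψ : IrrCharacter G) (k : ZMod p) : ℕ :=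
  ∑ θ : IrrCharacter D.K0, fdeg D θ * mult D θ ψ k

theorem apply_xpow (ψ : IrrCharacter G) (a : ZMod p) :
    (ψ : G → ℂ) (D.x ^ a.val) = ∑ k : ZMod p, (nP D ψ k : ℂ) * ZMod.stdAddChar (k * a) := by
  have h := apply_el D ψ a 1
  rw [Frame.coe_el, OneMemClass.coe_one, mul_one] at h
  rw [h, Finset.sum_comm]
  refine Finset.sum_congr rfl fun k _ => ?_
  rw [nP, Nat.cast_sum, Finset.sum_mul]
  refine Finset.sum_congr rfl fun θ _ => ?_
  rw [Frame.ext_mk, irr_one_eq, fdeg]
  push_cast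
  ring

theorem deg_eq (ψ : IrrCharacter G) : charDegree (ψ : G → ℂ) = ∑ k : ZMod p, nP D ψ k := by
  apply Nat.cast_injective (R := ℂ)
  have h := apply_xpow D ψ 0
  rw [ZMod.val_zero, pow_zero, irr_one_eq] at h
  rw [h, Nat.cast_sum]
  simp only [mul_zero, AddChar.map_zero_eq_one, mul_one]

theorem deg_eq' (ψ : IrrCharacter G) :
    charDegree (ψ : G → ℂ) = ∑ θ : IrrCharacter D.K0, fdeg D θ * ∑ k : ZMod p, mult D θ ψ k := by
  rw [deg_eq D]
  simp only [nP, Finset.mul_sum]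
  exact Finset.sum_comm

theorem sum_xpow (ψ : IrrCharacter G) :
    ∑ a : ZMod p, (ψ : G → ℂ) (D.x ^ a.val) = (p : ℂ) * nP D ψ 0 := by
  simp only [apply_xpow D]
  rw [Finset.sum_comm]
  simp only [← Finset.mul_sum, Frame.sum_std']
  rw [Finset.sum_eq_single (0 : ZMod p) (fun k _ hk => by rw [if_neg hk, mul_zero])
    (fun h => absurd (Finset.mem_univ _) h), if_pos rfl, mul_comm]

theorem sum_normSq_xpow (ψ : IrrCharacter G) :
    ∑ a : ZMod p, (ψ : G → ℂ) (D.x ^ a.val) * conj ((ψ : G → ℂ) (D.x ^ a.val))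
      = (p : ℂ) * ((∑ k : ZMod p, nP D ψ k ^ 2 : ℕ) : ℂ) := by
  simp only [apply_xpow D, map_sum, map_mul, map_natCast, Frame.conj_std, Finset.sum_mul_sum]
  rw [Finset.sum_comm, Nat.cast_sum, Finset.mul_sum]
  refine Finset.sum_congr rfl fun k _ => ?_
  rw [Finset.sum_comm, Finset.sum_eq_single k]
  · rw [Finset.sum_congr rfl (g := fun _ : ZMod p => (nP D ψ k : ℂ) * nP D ψ k) fun a _ => by
      rw [mul_mul_mul_comm, ← AddChar.map_add_eq_mul, add_neg_cancel, AddChar.map_zero_eq_one, mul_one],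
      Finset.sum_const, Finset.card_univ, ZMod.card, nsmul_eq_mul]
    push_cast
    ring
  · intro l _ hl
    rw [Finset.sum_congr rfl (g := fun a : ZMod p => (nP D ψ k : ℂ) * nP D ψ l * ZMod.stdAddChar ((k - l) * a))
      fun a _ => by rw [sub_mul, sub_eq_add_neg, AddChar.map_add_eq_mul]; ring, ← Finset.mul_sum,
      Frame.sum_std', if_neg (sub_ne_zero.2 hl.symm), mul_zero]
  · exact fun h => absurd (Finset.mem_univ _) h

theorem sum_cent (ψ : IrrCharacter G) :
    ∑ c : cent P, (ψ : G → ℂ) c = (Nat.card (cent P) : ℂ) * mult D (θone D) ψ 0 := by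
  rw [← mult_spec, Cfsg.classInner, ← mul_assoc, mul_inv_cancel₀ Char.card_ne_zero, one_mul]
  refine Finset.sum_congr rfl fun c _ => ?_
  obtain ⟨a, y, rfl⟩ := D.exists_el c
  rw [Frame.ext_mk, θone_apply, zero_mul, AddChar.map_zero_eq_one, one_mul, map_one, mul_one]

/-- The norm of the restriction to the centralizer. -/
noncomputable def normC (ψ : IrrCharacter G) : ℕ :=
  ∑ θ : IrrCharacter D.K0, ∑ k : ZMod p, mult D θ ψ k ^ 2

theorem sum_normSq_cent (ψ : IrrCharacter G) :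
    ∑ c : cent P, (ψ : G → ℂ) c * conj ((ψ : G → ℂ) c) = (Nat.card (cent P) : ℂ) * normC D ψ := by
  rw [Finset.sum_congr rfl (g := fun c : cent P => ∑ θ : IrrCharacter D.K0, ∑ k : ZMod p,
    (mult D θ ψ k : ℂ) * ((D.ext k θ : cent P → ℂ) c * conj ((ψ : G → ℂ) c))) fun c _ => ?_,
    Finset.sum_comm, normC, Nat.cast_sum, Finset.mul_sum]
  · refine Finset.sum_congr rfl fun θ _ => ?_
    rw [Finset.sum_comm, Nat.cast_sum, Finset.mul_sum]
    refine Finset.sum_congr rfl fun k _ => ?_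
    have h : ∑ c : cent P, (D.ext k θ : cent P → ℂ) c * conj ((ψ : G → ℂ) c)
        = (Nat.card (cent P) : ℂ) * mult D θ ψ k := by
      have h1 := congrArg conj (mult_spec D θ ψ k)
      rw [map_natCast, Cfsg.classInner, map_mul, map_inv₀, map_natCast, map_sum] at h1
      rw [← h1, ← mul_assoc, mul_inv_cancel₀ Char.card_ne_zero, one_mul]
      refine Finset.sum_congr rfl fun c _ => ?_
      rw [map_mul, Complex.conj_conj, mul_comm]
    rw [← Finset.mul_sum, h]
    push_cast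
    ring
  · obtain ⟨a, y, rfl⟩ := D.exists_el c
    simp only [← mul_assoc, ← Finset.sum_mul]
    rw [← apply_el D]

theorem mult_oneChar : mult D (θone D) (DegreeTools.oneChar G) 0 = 1 := by
  apply Nat.cast_injective (R := ℂ)
  have h := sum_cent D (DegreeTools.oneChar G)
  simp only [DegreeTools.coe_oneChar, Finset.sum_const, Finset.card_univ, nsmul_eq_mul, mul_one,
    ← Nat.card_eq_fintype_card] at h
  rw [Nat.cast_one]
  exact (mul_eq_left₀ Char.card_ne_zero).1 h.symm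

theorem nP_oneChar : nP D (DegreeTools.oneChar G) 0 = 1 := by
  apply Nat.cast_injective (R := ℂ)
  have h := sum_xpow D (DegreeTools.oneChar G)
  simp only [DegreeTools.coe_oneChar, Finset.sum_const, Finset.card_univ, nsmul_eq_mul, mul_one,
    ZMod.card] at h
  rw [Nat.cast_one]
  exact (mul_eq_left₀ (Nat.cast_ne_zero.2 hp.out.ne_zero)).1 h.symm

/-- The twist shifts the multiplicities. -/
theorem mult_tw (θ : IrrCharacter D.K0) (ψ : IrrCharacter G) (g : nrm P) (k : ZMod p) :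
    mult D (D.tw θ g) ψ k = mult D θ ψ (k * ((D.act g)⁻¹ : (ZMod p)ˣ)) := by
  apply Nat.cast_injective (R := ℂ)
  rw [← mult_spec, ← mult_spec, Frame.classInner_ext, Frame.classInner_ext]
  congr 1
  refine Fintype.sum_equiv (Units.mulLeft (D.act g)) _ _ fun a => ?_
  show D.sec (D.tw θ g) ψ a * ZMod.stdAddChar (-(k * a)) = D.sec θ ψ ((D.act g : ZMod p) * a) *
    ZMod.stdAddChar (-(k * (((D.act g)⁻¹ : (ZMod p)ˣ) : ZMod p) * ((D.act g : ZMod p) * a)))
  rw [Frame.sec_tw, mul_assoc k, ← mul_assoc (((D.act g)⁻¹ : (ZMod p)ˣ) : ZMod p), Units.inv_mul, one_mul]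

theorem fdeg_tw (θ : IrrCharacter D.K0) (g : nrm P) : fdeg D (D.tw θ g) = fdeg D θ := by
  rw [fdeg, fdeg, Cfsg.charDegree, Cfsg.charDegree, Frame.tw_apply, map_one]

/-- A character moving `P` has a multiplicity off zero. -/
theorem exists_mult_pos {ψ : IrrCharacter G} (h : ∃ u ∈ (P : Subgroup G), (ψ : G → ℂ) u ≠ (ψ : G → ℂ) 1) :
    ∃ θ : IrrCharacter D.K0, ∃ k : ZMod p, k ≠ 0 ∧ 0 < mult D θ ψ k := by
  by_contra hno
  push Not at hno
  obtain ⟨u, hu, hne⟩ := h
  rw [← D.zp] at hu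
  obtain ⟨i, hi⟩ := (isOfFinOrder_of_finite D.x).mem_powers_iff_mem_zpowers.2 hu
  refine hne ?_
  have hu' : u = D.x ^ (i : ZMod p).val := by rw [D.xpow_eq]; exact hi.symm
  have h0 : ∀ k : ZMod p, k ≠ 0 → nP D ψ k = 0 := fun k hk =>
    Finset.sum_eq_zero fun θ _ => by rw [Nat.le_zero.1 (hno θ k hk), mul_zero]
  rw [hu', apply_xpow, irr_one_eq, deg_eq D, Nat.cast_sum]
  refine Finset.sum_congr rfl fun k _ => ?_
  by_cases hk : k = 0
  · rw [hk, zero_mul, AddChar.map_zero_eq_one, mul_one]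
  · rw [h0 k hk, Nat.cast_zero, zero_mul]

end CfsgLib.CharDeep.ExactP
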