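import Cfsg.Agent.Lib.CharDeep.ExactP.Mult
import Cfsg.Agent.Lib.Blocks.DefectOneCount

/-!
# Sylow subgroups of prime order: the three patterns of multiplicities
-/

set_option autoImplicit false

namespace CfsgLib.CharDeep.ExactP

open Cfsg CfsgLib CfsgLib.Blocks CfsgLib.Blocks.DefectOne
open scoped Classical ComplexConjugate

variable {G : Type*} [Group G] [Fintype G] {p : ℕ} [hp : Fact p.Prime] {P : Sylow p G} (D : Frame P)

/-- The multiplicities along `θ` are constant. -/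
def IsConst (θ : IrrCharacter D.K0) (ψ : IrrCharacter G) : Prop := ∀ k, mult D θ ψ k = mult D θ ψ 0

theorem sec_eq_zero_of_isConst {θ : IrrCharacter D.K0} {ψ : IrrCharacter G} (h : IsConst D θ ψ) {a : ZMod p}
    (ha : a ≠ 0) : D.sec θ ψ a = 0 := by
  rw [sec_eq, Finset.sum_congr rfl fun k _ => by rw [h k], ← Finset.mul_sum, Frame.sum_std, if_neg ha, mul_zero]

theorem mem_induced {M : Ideal AlgInt} (hM : IsPModular p M) {θ : IrrCharacter D.K0} {ψ : IrrCharacter G}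
    (hψ : ¬ IsConst D θ ψ) {B : Set (IrrCharacter G)} (h : IsInducedBlock M (cent P) (D.blk M θ) B) : ψ ∈ B := by
  by_contra hmem
  refine hψ fun k => ?_
  have h0 : (D.diff θ k ψ : ℂ) = 0 := by
    rw [Frame.cast_diff, Finset.sum_eq_zero, mul_zero]
    intro a _
    by_cases ha : a = 0
    · simp [ha]
    · rw [D.sec_eq_zero_of_notMem hM h hmem ha, zero_mul]
  have h1 : D.diff θ k ψ = 0 := by exact_mod_cast h0
  rw [diff_eq] at h1
  omega

/-- Nonconstant multiplicities occur only along one orbit. -/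
theorem mem_orb_of_not_isConst {θ θ' : IrrCharacter D.K0} {ψ : IrrCharacter G} (h : ¬ IsConst D θ ψ)
    (h' : ¬ IsConst D θ' ψ) : θ' ∈ D.orb θ := by
  obtain ⟨M, hM⟩ := exists_isPModular hp.out
  obtain ⟨B, hB⟩ := D.exists_induced hM θ
  obtain ⟨B', hB'⟩ := D.exists_induced hM θ'
  have e1 := IsPBlock.eq_blockOf hM hB.2.1 (mem_induced D hM h hB)
  have e2 := IsPBlock.eq_blockOf hM hB'.2.1 (mem_induced D hM h' hB')
  refine (D.induced_iff_orb hM hB θ').1 ?_
  rw [e1, ← e2]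
  exact hB'

theorem tw_θone (g : nrm P) : D.tw (θone D) g = θone D :=
  Subtype.ext (funext fun y => by rw [Frame.tw_apply, θone_apply, θone_apply])

theorem eq_θone_of_mem_orb {θ : IrrCharacter D.K0} (h : θ ∈ D.orb (θone D)) : θ = θone D := by
  obtain ⟨g, rfl⟩ := D.mem_orb.1 h
  exact tw_θone D g

theorem autE_le_range (θ : IrrCharacter D.K0) : Nat.card (D.autE θ) ≤ Nat.card D.act.range :=
  Subgroup.card_le_of_le (Subgroup.map_le_range _ _)

theorem card_autE_θone : Nat.card (D.autE (θone D)) = Nat.card D.act.range := by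
  have h := D.card_orb_mul (θone D)
  rwa [show D.orb (θone D) = {θone D} from Finset.eq_singleton_iff_unique_mem.2
    ⟨D.self_mem_orb _, fun θ hθ => eq_θone_of_mem_orb D hθ⟩, Finset.card_singleton, one_mul] at h

/-- The possible multiplicities along `θ`. -/
theorem pattern {θ : IrrCharacter D.K0} (h3 : 3 * Nat.card (D.autE θ) ≤ p - 1) (ψ : IrrCharacter G) :
    IsConst D θ ψ ∨
      (∃ s : ℤ, (s = 1 ∨ s = -1) ∧ ∀ k : ZMod p, k ≠ 0 → (mult D θ ψ k : ℤ) = mult D θ ψ 0 - s) ∨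
      ∃ δ : ℤ, (δ = 1 ∨ δ = -1) ∧ ∃ T : Finset (ZMod p), (0 : ZMod p) ∉ T ∧ T.card = Nat.card (D.autE θ) ∧
        ∀ k : ZMod p, (mult D θ ψ k : ℤ) = mult D θ ψ 0 + if k ∈ T then δ else 0 := by
  by_cases hc : IsConst D θ ψ
  · exact Or.inl hc
  obtain ⟨M, hM⟩ := exists_isPModular hp.out
  obtain ⟨B, hB⟩ := D.exists_induced hM θ
  obtain ⟨S⟩ := exists_shape D hM hB
  set e := Nat.card (D.autE θ)
  have he : 0 < e := Nat.card_pos
  have hp0 : (p : ℂ) ≠ 0 := Nat.cast_ne_zero.2 hp.out.ne_zero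
  have hX : ∀ χ ∈ S.X, ∀ k : ZMod p, k ≠ 0 → D.diff θ k χ = S.sgn χ := by
    intro χ hχ k hk
    apply Int.cast_injective (α := ℂ)
    rw [Frame.cast_diff, Finset.sum_congr rfl (g := fun a => (S.sgn χ : ℂ) * (1 - ZMod.stdAddChar (-k * a)))
      fun a _ => ?_, ← Finset.mul_sum, Finset.sum_sub_distrib, Frame.sum_std', if_neg (neg_ne_zero.2 hk),
      Finset.sum_const, Finset.card_univ, ZMod.card, nsmul_eq_mul, mul_one, sub_zero]
    · field_simp
    · by_cases ha : a = 0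
      · simp [ha]
      · rw [S.sec_X χ hχ a ha, neg_mul]
  have hY : ∀ l : (ZMod p)ˣ, ∀ k : ZMod p, k ≠ 0 → D.diff θ k (S.ζ l)
      = S.d - S.δ * if k ∈ (Finset.univ.filter fun j => S.ζ j = S.ζ l).image (Units.val) then 1 else 0 := by
    intro l k hk
    set F := Finset.univ.filter fun j => S.ζ j = S.ζ l
    apply Int.cast_injective (α := ℂ)
    rw [Frame.cast_diff, Finset.sum_congr rfl (g := fun a => ((S.d : ℂ) + (S.δ : ℂ) *
      ∑ j ∈ F, (ZMod.stdAddChar ((j : ZMod p) * a) : ℂ)) * (1 - ZMod.stdAddChar (-k * a))) fun a _ => ?_]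
    · rw [Finset.sum_congr rfl (g := fun a : ZMod p => (S.d : ℂ) + (S.δ : ℂ) *
        ∑ j ∈ F, (ZMod.stdAddChar ((j : ZMod p) * a) : ℂ) - (S.d : ℂ) * ZMod.stdAddChar (-k * a) -
        (S.δ : ℂ) * ∑ j ∈ F, (ZMod.stdAddChar (((j : ZMod p) - k) * a) : ℂ)) fun a _ => ?_]
      · simp only [Finset.sum_sub_distrib, Finset.sum_add_distrib, ← Finset.mul_sum]
        rw [Finset.sum_comm (t := F), Finset.sum_comm (t := F)]
        simp only [Frame.sum_std', Units.ne_zero, if_false, Finset.sum_const_zero, mul_zero, add_zero,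
          if_neg (neg_ne_zero.2 hk), sub_zero, Finset.sum_const, Finset.card_univ, ZMod.card, nsmul_eq_mul,
          sub_eq_zero]
        rw [show ∑ j ∈ F, (if (j : ZMod p) = k then (p : ℂ) else 0)
            = if k ∈ F.image Units.val then (p : ℂ) else 0 by
          rw [← Finset.sum_image (f := fun j => if j = k then (p : ℂ) else 0) (Units.val_injective.injOn),
            Finset.sum_ite_eq']]
        split_ifs <;> push_cast <;> field_simp <;> ring
      · have e1 : ∀ j : ZMod p, (ZMod.stdAddChar ((j - k) * a) : ℂ)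
            = ZMod.stdAddChar (j * a) * ZMod.stdAddChar (-k * a) := fun j => by
          rw [← AddChar.map_add_eq_mul, sub_eq_add_neg, add_mul]
        simp only [e1, ← Finset.sum_mul]
        ring
    · by_cases ha : a = 0
      · simp [ha]
      · rw [S.sec_Y l a ha, neg_mul]
  rcases (S.mem_iff ψ).1 (mem_induced D hM hc hB) with hψ | hψ
  · refine Or.inr (Or.inl ⟨S.sgn ψ, S.sgn_X ψ hψ, fun k hk => ?_⟩)
    have := hX ψ hψ k hk
    rw [diff_eq] at this
    omega
  -- the Gram relation kills `d`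
  set r := S.Y.card
  have hr : 3 ≤ r := by
    have : e * r = p - 1 := S.card_Y
    have he_ : e = Nat.card (D.autE θ) := rfl
    by_contra hlt
    have : e * r ≤ e * 2 := Nat.mul_le_mul_left e (by omega)
    omega
  have hgram := D.sum_diff_mul θ 1 1
  rw [inv_one, one_mul, if_pos (D.autE θ).one_mem] at hgram
  have hsub : ∑ χ ∈ S.X ∪ S.Y, D.diff θ ((1 : (ZMod p)ˣ) : ZMod p) χ * D.diff θ ((1 : (ZMod p)ˣ) : ZMod p) χ
      ≤ (e : ℤ) + 1 := by
    rw [← hgram]
    exact Finset.sum_le_sum_of_subset_of_nonneg (Finset.subset_univ _) fun χ _ _ => mul_self_nonneg _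
  rw [Finset.sum_union S.disj, Finset.sum_congr rfl (g := fun _ => (1 : ℤ)) fun χ hχ => by
    rw [hX χ hχ _ (Units.ne_zero 1)]
    rcases S.sgn_X χ hχ with h | h <;> rw [h] <;> norm_num,
    Finset.sum_const, nsmul_eq_mul, mul_one, S.card_X] at hsub
  have hmem1 : S.ζ 1 ∈ S.Y := (S.mem_Y _).2 ⟨1, rfl⟩
  have hin : ∀ η ∈ S.Y, D.diff θ ((1 : (ZMod p)ˣ) : ZMod p) η = S.d - S.δ * if η = S.ζ 1 then 1 else 0 := by
    intro η hη
    obtain ⟨l, rfl⟩ := (S.mem_Y η).1 hη
    rw [hY l _ (Units.ne_zero 1)]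
    congr 2
    by_cases h : S.ζ l = S.ζ 1
    · rw [if_pos h, if_pos (Finset.mem_image.2 ⟨1, Finset.mem_filter.2 ⟨Finset.mem_univ _, h.symm⟩, rfl⟩)]
    · rw [if_neg h, if_neg]
      intro h1
      obtain ⟨j, hj, hj1⟩ := Finset.mem_image.1 h1
      rw [Units.ext hj1] at hj
      exact h (Finset.mem_filter.1 hj).2.symm
  rw [← Finset.add_sum_erase _ _ hmem1, Finset.sum_congr rfl (s₂ := S.Y.erase (S.ζ 1))
    (g := fun _ => S.d * S.d) fun η hη => by
      rw [hin η (Finset.mem_of_mem_erase hη), if_neg (Finset.ne_of_mem_erase hη), mul_zero, sub_zero],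
    Finset.sum_const, Finset.card_erase_of_mem hmem1, nsmul_eq_mul, hin _ hmem1, if_pos rfl, mul_one,
    Nat.cast_sub (by omega : 1 ≤ r)] at hsub
  push_cast at hsub
  have hd : S.d = 0 := by
    by_contra hd
    have h1 : 1 ≤ S.d * S.d := by
      have := mul_self_pos.2 hd
      omega
    have h2 : (3 : ℤ) ≤ (r : ℤ) := by exact_mod_cast hr
    nlinarith [mul_self_nonneg (S.d - S.δ)]
  obtain ⟨l, rfl⟩ := (S.mem_Y ψ).1 hψ
  have hδ : S.δ = 1 ∨ S.δ = -1 := by
    rw [hd] at hsub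
    have h1 : S.δ * S.δ ≤ 1 := by nlinarith
    have h2 : S.δ ≤ 1 := by nlinarith
    have h3 : -1 ≤ S.δ := by nlinarith
    rcases (by omega : S.δ = 1 ∨ S.δ = -1 ∨ S.δ = 0) with h | h | h
    · exact Or.inl h
    · exact Or.inr h
    refine absurd (fun k => ?_) hc
    by_cases hk : k = 0
    · rw [hk]
    have := hY l k hk
    rw [diff_eq, h, zero_mul, sub_zero, hd] at this
    omega
  refine Or.inr (Or.inr ⟨S.δ, hδ, (Finset.univ.filter fun j => S.ζ j = S.ζ l).image Units.val, ?_, ?_, ?_⟩)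
  · intro h
    obtain ⟨j, -, hj⟩ := Finset.mem_image.1 h
    exact j.ne_zero hj
  · rw [Finset.card_image_of_injective _ Units.val_injective]
    show _ = Nat.card (D.autE θ)
    rw [Nat.card_eq_fintype_card, ← Finset.card_univ]
    refine Finset.card_bij' (fun j hj => (⟨l⁻¹ * j, (S.ζ_iff l j).1 (Finset.mem_filter.1 hj).2.symm⟩ : D.autE θ))
      (fun ε _ => l * (ε : (ZMod p)ˣ)) (fun j _ => Finset.mem_univ _)
      (fun ε _ => Finset.mem_filter.2 ⟨Finset.mem_univ _, ((S.ζ_iff _ _).2 (by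
        rw [inv_mul_cancel_left]; exact ε.2)).symm⟩) ?_ ?_
    · intro j _; exact mul_inv_cancel_left l j
    · intro ε _; exact Subtype.ext (inv_mul_cancel_left l (ε : (ZMod p)ˣ))
  · intro k
    by_cases hk : k = 0
    · rw [hk, if_neg, add_zero]
      intro h
      obtain ⟨j, -, hj⟩ := Finset.mem_image.1 h
      exact j.ne_zero hj
    have := hY l k hk
    rw [diff_eq, hd] at this
    split_ifs at this ⊢ <;> omega

/-- The sums of multiplicities in each pattern. -/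
theorem pattern_sums {θ : IrrCharacter D.K0} (h3 : 3 * Nat.card (D.autE θ) ≤ p - 1) (ψ : IrrCharacter G) :
    (IsConst D θ ψ ∧ ((∑ k, mult D θ ψ k : ℕ) : ℤ) = p * mult D θ ψ 0 ∧
        ((∑ k, mult D θ ψ k ^ 2 : ℕ) : ℤ) = p * (mult D θ ψ 0 : ℤ) ^ 2) ∨
      (∃ s : ℤ, (s = 1 ∨ s = -1) ∧ ¬ IsConst D θ ψ ∧
        (∀ k : ZMod p, k ≠ 0 → (mult D θ ψ k : ℤ) = mult D θ ψ 0 - s) ∧
        ((∑ k, mult D θ ψ k : ℕ) : ℤ) = (mult D θ ψ 0 : ℤ) + ((p : ℤ) - 1) * ((mult D θ ψ 0 : ℤ) - s) ∧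
        ((∑ k, mult D θ ψ k ^ 2 : ℕ) : ℤ)
          = (mult D θ ψ 0 : ℤ) ^ 2 + ((p : ℤ) - 1) * ((mult D θ ψ 0 : ℤ) - s) ^ 2) ∨
      ∃ δ : ℤ, (δ = 1 ∨ δ = -1) ∧ ¬ IsConst D θ ψ ∧
        (∃ T : Finset (ZMod p), (0 : ZMod p) ∉ T ∧ T.card = Nat.card (D.autE θ) ∧
          ∀ k : ZMod p, (mult D θ ψ k : ℤ) = mult D θ ψ 0 + if k ∈ T then δ else 0) ∧
        ((∑ k, mult D θ ψ k : ℕ) : ℤ) = (p : ℤ) * mult D θ ψ 0 + δ * Nat.card (D.autE θ) ∧
        ((∑ k, mult D θ ψ k ^ 2 : ℕ) : ℤ)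
          = (p : ℤ) * (mult D θ ψ 0 : ℤ) ^ 2 + (2 * δ * mult D θ ψ 0 + 1) * Nat.card (D.autE θ) := by
  rcases pattern D h3 ψ with h | ⟨s, hs, h⟩ | ⟨δ, hδ, T, hT0, hT, h⟩
  · refine Or.inl ⟨h, ?_, ?_⟩ <;>
    · rw [Finset.sum_congr rfl fun k _ => by rw [h k], Finset.sum_const, Finset.card_univ, ZMod.card, smul_eq_mul]
      push_cast
      ring
  · refine Or.inr (Or.inl ⟨s, hs, fun hc => ?_, h, ?_, ?_⟩)
    · have := h 1 one_ne_zero
      rw [hc 1] at this
      omega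
    all_goals
      push_cast
      rw [← Finset.add_sum_erase _ _ (Finset.mem_univ (0 : ZMod p)),
        Finset.sum_congr rfl fun k hk => by rw [h k (Finset.ne_of_mem_erase hk)], Finset.sum_const,
        Finset.card_erase_of_mem (Finset.mem_univ _), Finset.card_univ, ZMod.card, nsmul_eq_mul,
        Nat.cast_sub hp.out.one_le]
      push_cast
      ring
  · refine Or.inr (Or.inr ⟨δ, hδ, fun hc => ?_, ⟨T, hT0, hT, h⟩, ?_, ?_⟩)
    · obtain ⟨k, hk⟩ := Finset.card_pos.1 (hT ▸ Nat.card_pos : 0 < T.card)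
      have := h k
      rw [hc k, if_pos hk] at this
      omega
    · push_cast
      rw [Finset.sum_congr rfl fun k _ => h k, Finset.sum_add_distrib, Finset.sum_const, Finset.card_univ,
        ZMod.card, nsmul_eq_mul, Finset.sum_ite_mem, Finset.univ_inter, Finset.sum_const, hT, nsmul_eq_mul]
      ring
    · push_cast
      rw [Finset.sum_congr rfl (g := fun k => (mult D θ ψ 0 : ℤ) ^ 2 + if k ∈ T then 2 * δ * mult D θ ψ 0 + 1 else 0)
        fun k _ => ?_, Finset.sum_add_distrib, Finset.sum_const, Finset.card_univ, ZMod.card, nsmul_eq_mul,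
        Finset.sum_ite_mem, Finset.univ_inter, Finset.sum_const, hT, nsmul_eq_mul]
      · ring
      · rw [h k]
        split_ifs
        · rcases hδ with e | e <;> rw [e] <;> ring
        · ring

end CfsgLib.CharDeep.ExactP
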